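import Cfsg.Agent.Mrg.Omega.EH3.Rank1.Base


/-!
# EH3, the row `L₂(q)`, `q ≥ 8` even (helper234)

* `node` : the node data of `SL₂(F)`, `F` finite of characteristic 2;
* `row_sl2`, `row` : `RowEH3 SL₂(F)`, `RowEH3 PSL₂(F)` for `|F| ≥ 8`.
-/

set_option autoImplicit false

namespace Cfsg.Agent.Omega.EH3.Rank1.LTwo

open Subgroup TwoF
open scoped Matrix MatrixGroups

universe u v

variable {F : Type*} [Field F]

/-- upper unitriangular matrices -/
def up (x : F) : SL(2, F) := ⟨!![1, x; 0, 1], by rw [Matrix.det_fin_two_of]; ring⟩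

/-- diagonal matrices -/
def dg (k : Fˣ) : SL(2, F) := ⟨!![(k : F), 0; 0, ((k⁻¹ : Fˣ) : F)], by
  rw [Matrix.det_fin_two_of, mul_zero, sub_zero, Units.mul_inv]⟩

/-- lower unitriangular matrices -/
def lo (x : F) : SL(2, F) := ⟨!![1, 0; x, 1], by rw [Matrix.det_fin_two_of]; ring⟩

theorem up_val (x : F) : (up x : Matrix (Fin 2) (Fin 2) F) = !![1, x; 0, 1] := rfl

theorem up_mul (x y : F) : up x * up y = up (x + y) := by
  apply Subtype.ext
  rw [Matrix.SpecialLinearGroup.coe_mul, up_val, up_val, up_val, Matrix.mul_fin_two]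
  congr 1
  ext i j
  fin_cases i <;> fin_cases j <;> simp [add_comm]

theorem up_zero : up (0 : F) = 1 := by
  apply Subtype.ext
  rw [up_val, Matrix.SpecialLinearGroup.coe_one]
  ext i j
  fin_cases i <;> fin_cases j <;> simp

theorem up_inv (x : F) : (up x)⁻¹ = up (-x) := by
  rw [inv_eq_iff_mul_eq_one, up_mul, add_neg_cancel, up_zero]

theorem dg_one : dg (1 : Fˣ) = 1 := by
  apply Subtype.ext
  rw [Matrix.SpecialLinearGroup.coe_one]
  show !![((1 : Fˣ) : F), 0; 0, (((1 : Fˣ)⁻¹ : Fˣ) : F)] = 1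
  rw [inv_one, Units.val_one]
  ext i j
  fin_cases i <;> fin_cases j <;> simp

theorem dg_mul (k l : Fˣ) : dg k * dg l = dg (k * l) := by
  apply Subtype.ext
  rw [Matrix.SpecialLinearGroup.coe_mul]
  show !![(k : F), 0; 0, ((k⁻¹ : Fˣ) : F)] * !![(l : F), 0; 0, ((l⁻¹ : Fˣ) : F)]
    = !![((k * l : Fˣ) : F), 0; 0, (((k * l)⁻¹ : Fˣ) : F)]
  rw [Matrix.mul_fin_two, mul_inv, Units.val_mul, Units.val_mul]
  ext i j
  fin_cases i <;> fin_cases j <;> simp

theorem dg_pow (k : Fˣ) (n : ℕ) : dg k ^ n = dg (k ^ n) := by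
  induction n with
  | zero => rw [pow_zero, pow_zero, dg_one]
  | succ n ih => rw [pow_succ, ih, dg_mul, pow_succ]

theorem dg_inv (k : Fˣ) : (dg k)⁻¹ = dg k⁻¹ := by
  rw [inv_eq_iff_mul_eq_one, dg_mul, mul_inv_cancel, dg_one]

theorem dg_up (k : Fˣ) (x : F) : dg k * up x * (dg k)⁻¹ = up ((k : F) ^ 2 * x) := by
  rw [dg_inv]
  apply Subtype.ext
  rw [Matrix.SpecialLinearGroup.coe_mul, Matrix.SpecialLinearGroup.coe_mul]
  show !![(k : F), 0; 0, ((k⁻¹ : Fˣ) : F)] * !![1, x; 0, 1] * !![((k⁻¹ : Fˣ) : F), 0; 0, ((k⁻¹⁻¹ : Fˣ) : F)]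
    = !![1, (k : F) ^ 2 * x; 0, 1]
  rw [Matrix.mul_fin_two, Matrix.mul_fin_two, inv_inv]
  ext i j
  fin_cases i <;> fin_cases j
  · simp
  · simp
    ring
  · simp
  · simp

/-- a Weyl group element -/
def wm : SL(2, F) := ⟨!![0, 1; -1, 0], by rw [Matrix.det_fin_two_of]; ring⟩

theorem wm_conj (k : Fˣ) (x : F) : (wm⁻¹ * (dg k * up x) * wm).1 1 0 = -((k : F) * x) := by
  rw [Matrix.SpecialLinearGroup.coe_mul, Matrix.SpecialLinearGroup.coe_mul,
    Matrix.SpecialLinearGroup.coe_mul, Matrix.SpecialLinearGroup.coe_inv]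
  show ((!![0, 1; -1, 0] : Matrix (Fin 2) (Fin 2) F).adjugate *
    (!![(k : F), 0; 0, ((k⁻¹ : Fˣ) : F)] * !![1, x; 0, 1]) * !![0, 1; -1, 0] : Matrix (Fin 2) (Fin 2) F) 1 0 = _
  rw [Matrix.adjugate_fin_two_of, Matrix.mul_fin_two, Matrix.mul_fin_two, Matrix.mul_fin_two]
  simp

theorem lo_conj (k : Fˣ) (x : F) :
    ((lo 1)⁻¹ * (dg k * up x) * lo 1).1 1 0 = ((k⁻¹ : Fˣ) : F) - (k : F) * (1 + x) := by
  rw [Matrix.SpecialLinearGroup.coe_mul, Matrix.SpecialLinearGroup.coe_mul,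
    Matrix.SpecialLinearGroup.coe_mul, Matrix.SpecialLinearGroup.coe_inv]
  show ((!![1, 0; 1, 1] : Matrix (Fin 2) (Fin 2) F).adjugate *
    (!![(k : F), 0; 0, ((k⁻¹ : Fˣ) : F)] * !![1, x; 0, 1]) * !![1, 0; 1, 1] : Matrix (Fin 2) (Fin 2) F) 1 0 = _
  rw [Matrix.adjugate_fin_two_of, Matrix.mul_fin_two, Matrix.mul_fin_two, Matrix.mul_fin_two]
  simp
  ring

/-- the group of upper unitriangular matrices -/
def U (F : Type*) [Field F] : Subgroup SL(2, F) where
  carrier := Set.range up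
  one_mem' := ⟨0, up_zero⟩
  mul_mem' := by
    rintro _ _ ⟨x, rfl⟩ ⟨y, rfl⟩
    exact ⟨x + y, (up_mul x y).symm⟩
  inv_mem' := by
    rintro _ ⟨x, rfl⟩
    exact ⟨-x, (up_inv x).symm⟩

theorem mem_U {g : SL(2, F)} : g ∈ U F ↔ ∃ x, up x = g := Iff.rfl

theorem det_eq (g : SL(2, F)) : g.1 0 0 * g.1 1 1 - g.1 0 1 * g.1 1 0 = 1 := by
  rw [← Matrix.det_fin_two]
  exact g.2

/-- the upper triangular matrices are `D U` -/
theorem eq_of_lower {g : SL(2, F)} (h : g.1 1 0 = 0) : ∃ (k : Fˣ) (x : F), g = dg k * up x := by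
  have hd := det_eq g
  rw [h, mul_zero, sub_zero] at hd
  have h0 : g.1 0 0 ≠ 0 := fun h0 => by rw [h0, zero_mul] at hd; exact zero_ne_one hd
  refine ⟨Units.mk0 _ h0, (g.1 0 0)⁻¹ * g.1 0 1, ?_⟩
  apply Subtype.ext
  rw [Matrix.SpecialLinearGroup.coe_mul]
  show g.1 = !![(g.1 0 0), 0; 0, (((Units.mk0 _ h0)⁻¹ : Fˣ) : F)] * !![1, (g.1 0 0)⁻¹ * g.1 0 1; 0, 1]
  rw [Matrix.mul_fin_two]
  ext i j
  fin_cases i <;> fin_cases j
  · simp
  · show g.1 0 1 = g.1 0 0 * ((g.1 0 0)⁻¹ * g.1 0 1) + 0 * 1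
    rw [← mul_assoc, mul_inv_cancel₀ h0]
    ring
  · simpa using h
  · have h1 : g.1 1 1 = (g.1 0 0)⁻¹ := eq_inv_of_mul_eq_one_right hd
    simp [h1]

/-- `N(U)` = upper triangular matrices -/
theorem mem_norm {g : SL(2, F)} : g ∈ normalizer ((U F : Subgroup SL(2, F)) : Set SL(2, F)) ↔ g.1 1 0 = 0 := by
  constructor
  · intro h
    obtain ⟨x, hx⟩ := (mem_normalizer_iff.1 h (up 1)).1 ⟨1, rfl⟩
    have h1 : up x * g = g * up 1 := by rw [hx, inv_mul_cancel_right]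
    have h2 := congrFun (congrFun (congrArg Subtype.val h1) 1) 1
    have h3 : (up x * g).1 1 1 = g.1 1 1 := by
      rw [Matrix.SpecialLinearGroup.coe_mul, Matrix.mul_apply, Fin.sum_univ_two, up_val]
      simp
    have h4 : (g * up 1).1 1 1 = g.1 1 0 + g.1 1 1 := by
      rw [Matrix.SpecialLinearGroup.coe_mul, Matrix.mul_apply, Fin.sum_univ_two, up_val]
      simp
    have h5 : g.1 1 1 = g.1 1 0 + g.1 1 1 := h3.symm.trans (h2.trans h4)
    exact (add_eq_right.mp h5.symm)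
  · intro h
    obtain ⟨k, x, rfl⟩ := eq_of_lower h
    refine mul_mem ?_ (le_normalizer (mem_U.2 ⟨x, rfl⟩))
    rw [mem_normalizer_iff]
    intro t
    constructor
    · rintro ⟨y, rfl⟩
      exact ⟨_, (dg_up k y).symm⟩
    · rintro ⟨y, hy⟩
      refine ⟨((k⁻¹ : Fˣ) : F) ^ 2 * y, ?_⟩
      rw [← dg_up, hy, ← dg_inv]
      group

/-- **the node data of `SL₂(F)`** -/
theorem node [Finite F] [CharP F 2] : ∃ (φ : SL(2, F) → F) (c : SL(2, F)) (lam : F),
    NodeL (⊤ : Subgroup SL(2, F)) (U F) ⊥ φ c lam := by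
  classical
  have := Fintype.ofFinite F
  have h2 : (2 : F) = 0 := CharP.cast_eq_zero F 2
  obtain ⟨m, hm⟩ := IsCyclic.exists_generator (α := Fˣ)
  have hord : orderOf m = Nat.card F - 1 := by
    rw [orderOf_eq_card_of_forall_mem_zpowers hm, Nat.card_units]
  have hodd : Odd (Nat.card F - 1) := by
    have h1 : 2 ∣ Nat.card F := by
      rw [Nat.card_eq_fintype_card, ← CharP.cast_eq_zero_iff F 2]
      exact FiniteField.cast_card_eq_zero F
    have h3 : 0 < Nat.card F := Nat.card_pos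
    obtain ⟨k, hk⟩ := h1
    exact ⟨k - 1, by omega⟩
  refine ⟨fun g => g.1 0 1, dg m, (m : F) ^ 2, ?_⟩
  have e01 : ∀ x : F, (up x).1 0 1 = x := fun x => rfl
  refine
    { T_le := le_top
      O_le := bot_le
      two := ?_
      norm := ?_
      trans := ?_
      core := ?_
      map_mul := ?_
      ker := ?_
      surj := ?_
      c_mem := mem_top _
      c_norm := ?_
      gen := ?_
      act := ?_
      ne := pow_ne_zero 2 m.ne_zero
      ord := ?_
      tor := ?_ }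
  · rintro ⟨_, x, rfl⟩
    refine ⟨1, Subtype.ext ?_⟩
    show up x ^ (2 ^ 1) = 1
    rw [pow_one, pow_two, up_mul, ← two_mul, h2, zero_mul, up_zero]
  · intro g _ o ho
    rw [mem_bot] at ho ⊢
    rw [ho, mul_one, mul_inv_cancel]
  · intro g _ hg k _ hk
    rw [mem_norm] at hg hk
    refine ⟨up (k.1 0 0 / k.1 1 0 - g.1 0 0 / g.1 1 0), ⟨_, rfl⟩, ?_⟩
    rw [mem_norm]
    have h1 : ∀ a b : SL(2, F), (a⁻¹ * b).1 1 0 = a.1 0 0 * b.1 1 0 - a.1 1 0 * b.1 0 0 := by
      intro a b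
      rw [Matrix.SpecialLinearGroup.coe_mul, Matrix.mul_apply, Fin.sum_univ_two,
        Matrix.SpecialLinearGroup.coe_inv, Matrix.adjugate_fin_two]
      simp
      ring
    rw [h1]
    have h3 : ∀ x : F, (up x * g).1 0 0 = g.1 0 0 + x * g.1 1 0 := by
      intro x
      rw [Matrix.SpecialLinearGroup.coe_mul, Matrix.mul_apply, Fin.sum_univ_two, up_val]
      simp
    have h4 : ∀ x : F, (up x * g).1 1 0 = g.1 1 0 := by
      intro x
      rw [Matrix.SpecialLinearGroup.coe_mul, Matrix.mul_apply, Fin.sum_univ_two, up_val]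
      simp
    rw [h3, h4]
    field_simp
    ring
  · intro g _ hg
    have g10 : g.1 1 0 = 0 := by
      have := hg 1 (mem_top _)
      rw [inv_one, one_mul, mul_one, mem_norm] at this
      exact this
    obtain ⟨k, x, rfl⟩ := eq_of_lower g10
    have h7 := hg wm (mem_top _)
    rw [mem_norm, wm_conj] at h7
    have hx : x = 0 := (mul_eq_zero.1 (neg_eq_zero.1 h7)).resolve_left k.ne_zero
    have h5 := hg (lo 1) (mem_top _)
    rw [mem_norm, lo_conj, hx, add_zero, mul_one] at h5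
    have hk : (k : F) * k = 1 := by
      have h6 := Units.inv_mul k
      rwa [sub_eq_zero.1 h5] at h6
    have hk1 : (k : F) = 1 := by
      have h8 : ((k : F) - 1) * ((k : F) - 1) = 0 := by linear_combination hk + (1 - (k : F)) * h2
      exact sub_eq_zero.1 (mul_self_eq_zero.1 h8)
    have hk2 : k = 1 := Units.ext hk1
    rw [mem_bot, hx, up_zero, mul_one, hk2, dg_one]
  · rintro _ ⟨x, rfl⟩ _ ⟨y, rfl⟩
    show (up x * up y).1 0 1 = _
    rw [up_mul]
    rfl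
  · rintro _ ⟨x, rfl⟩
    show x = 0 ↔ _
    rw [mem_bot]
    constructor
    · rintro rfl
      exact up_zero
    · intro h
      have h1 := congrFun (congrFun (congrArg Subtype.val h) 0) 1
      have h3 : (1 : SL(2, F)).1 0 1 = 0 := by
        rw [Matrix.SpecialLinearGroup.coe_one]
        exact Matrix.one_apply_ne (by decide)
      exact h1.trans h3
  · intro x
    exact ⟨up x, ⟨x, rfl⟩, rfl⟩
  · rw [mem_norm]
    rfl
  · intro g _ hg
    rw [mem_norm] at hg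
    obtain ⟨k, x, rfl⟩ := eq_of_lower hg
    obtain ⟨n, hn⟩ := (mem_powers_iff_mem_zpowers.2 (hm k) : k ∈ Submonoid.powers m)
    refine ⟨n, up x, ⟨x, rfl⟩, ?_⟩
    rw [dg_pow]
    congr 2
    exact hn.symm
  · rintro _ ⟨x, rfl⟩
    rw [dg_up]
    rfl
  · intro k hk
    have h1 : m ^ (2 * k) = 1 := by
      apply Units.ext
      rw [pow_mul]
      simpa using hk
    have h3 := orderOf_dvd_of_pow_eq_one h1
    rw [hord] at h3
    exact (Nat.Coprime.dvd_of_dvd_mul_left (Nat.coprime_two_right.2 hodd) h3)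
  · rw [dg_pow, ← hord, pow_orderOf_eq_one, dg_one]
    exact (U F).one_mem

/-- the row of `L₂(q)` for groups `K` isomorphic to `SL₂(F)` -/
theorem row_of_equiv [Finite F] [CharP F 2] (h8 : 8 ≤ Nat.card F) {K : Type v} [Group K] (e : K ≃* SL(2, F)) :
    RowEH3.{u} K := by
  intro H V _ _ _ ρ b q a D X w L π hL hπ hX C
  have := C.finite_H
  have hp : Fact (Nat.Prime 2) := ⟨Nat.prime_two⟩
  have h2 : (2 : F) = 0 := CharP.cast_eq_zero F 2
  obtain ⟨φ, c, lam, hn⟩ := node (F := F)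
  have hodd : Odd (Nat.card F - 1) := by
    have := Fintype.ofFinite F
    have h1 : 2 ∣ Nat.card F := by
      rw [Nat.card_eq_fintype_card, ← CharP.cast_eq_zero_iff F 2]
      exact FiniteField.cast_card_eq_zero F
    obtain ⟨k, hk⟩ := h1
    exact ⟨k - 1, by omega⟩
  obtain ⟨U', hU'⟩ := exists_sylow_of_odd hn.two fun g hg => ⟨_, hodd, hn.pow_mem_T (mem_top g) hg⟩
  -- the isomorphism `L ≃* SL₂(F)`
  have hcov := hπ.comp e
  have hker := OddKer.ker_eq_bot_sl2 hcov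
  have hinj : Function.Injective (e.toMonoidHom.comp π) := (MonoidHom.ker_eq_bot_iff _).1 hker
  let f₀ : L ≃* SL(2, F) := MulEquiv.ofBijective (e.toMonoidHom.comp π) ⟨hinj, hcov.surj⟩
  obtain ⟨T, hx, -⟩ := C.exists_T_sub hL
  obtain ⟨f, hf, hfE, hfT⟩ := exists_transport f₀ T U'
  rw [hU'] at hfT
  obtain ⟨φ', -, hn'⟩ := hn.mapInj hf
  rw [hfE, hfT] at hn'
  have hfix := hn'.fix C hx h8
  have hbot := C.eq_bot_of_normal_fix hL hfix
  -- `L = 1`
  obtain ⟨y, hy⟩ : ∃ y : SL(2, F), y ≠ 1 := ⟨up 1, by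
    intro h
    have h1 := congrFun (congrFun (congrArg Subtype.val h) 0) 1
    have h3 : (1 : SL(2, F)).1 0 1 = 0 := by
      rw [Matrix.SpecialLinearGroup.coe_one]
      exact Matrix.one_apply_ne (by decide)
    exact one_ne_zero (h1.trans h3)⟩
  apply hy
  apply hf
  rw [map_one]
  have h1 : f y ∈ L := by
    rw [← hfE]
    exact ⟨y, mem_top _, rfl⟩
  rw [hbot] at h1
  exact mem_bot.1 h1

theorem center_eq_bot [Finite F] [CharP F 2] : center SL(2, F) = ⊥ := by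
  obtain ⟨φ, c, lam, hn⟩ := node (F := F)
  rw [eq_bot_iff]
  intro g hg
  refine hn.core g (mem_top g) fun h _ => ?_
  have h1 : h⁻¹ * g * h = g := by rw [mul_assoc, ← mem_center_iff.1 hg h, inv_mul_cancel_left]
  rw [h1, mem_normalizer_iff]
  intro t
  rw [← mem_center_iff.1 hg t, mul_inv_cancel_right]

/-- `PSL₂(F) = SL₂(F)` in characteristic 2 -/
theorem psl_equiv [Finite F] [CharP F 2] : Nonempty (Matrix.ProjectiveSpecialLinearGroup (Fin 2) F ≃* SL(2, F)) :=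
  ⟨(QuotientGroup.quotientMulEquivOfEq center_eq_bot).trans QuotientGroup.quotientBot⟩

/-- **the row `L₂(q)`, `q ≥ 8` even** -/
theorem row [Finite F] [CharP F 2] (h8 : 8 ≤ Nat.card F) {K : Type v} [Group K]
    (h : Nonempty (K ≃* Matrix.ProjectiveSpecialLinearGroup (Fin 2) F)) : RowEH3.{u} K := by
  obtain ⟨e⟩ := h
  obtain ⟨e'⟩ := psl_equiv (F := F)
  exact row_of_equiv h8 (e.trans e')

end Cfsg.Agent.Omega.EH3.Rank1.LTwo
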